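import Groth.Prelude.Def_Conn
import Mathlib

/-!
Induced connections on homomorphisms, read off through covariant derivatives.
-/

set_option autoImplicit false
set_option linter.style.haveILetI false
universe v u
open TensorProduct

namespace Groth.Agent.HomConnLib

variable {A : Type v} {B Ω M N : Type u} [CommRing A] [CommRing B] [Algebra A B]
  [AddCommGroup Ω] [Module B Ω] [Module A Ω] [IsScalarTower A B Ω]
  [AddCommGroup M] [Module B M] [Module A M] [IsScalarTower A B M]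
  [AddCommGroup N] [Module B N] [Module A N] [IsScalarTower A B N]

/-- contraction with a functional -/
noncomputable def c (θ : Ω →ₗ[B] B) (X : Type u) [AddCommGroup X] [Module B X] : X ⊗[B] Ω →ₗ[B] X :=
  (TensorProduct.rid B X).toLinearMap ∘ₗ TensorProduct.map LinearMap.id θ

omit [Module A Ω] [IsScalarTower A B Ω] in
theorem along_eq (nabla : M →ₗ[A] M ⊗[B] Ω) (θ : Ω →ₗ[B] B) (m : M) :
    Conn.along nabla θ m = c θ M (nabla m) := rfl

omit [Module A Ω] [IsScalarTower A B Ω] [Module A M] [IsScalarTower A B M] [Module A N] [IsScalarTower A B N] in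
theorem c_tmul (θ : Ω →ₗ[B] B) (m : M) (w : Ω) : c θ M (m ⊗ₜ w) = θ w • m := by
  simp [c]

omit [Module A Ω] [IsScalarTower A B Ω] [Module A M] [IsScalarTower A B M] [Module A N] [IsScalarTower A B N] in
theorem c_map (θ : Ω →ₗ[B] B) (f : M →ₗ[B] N) (x : M ⊗[B] Ω) :
    c θ N (TensorProduct.map f LinearMap.id x) = f (c θ M x) := by
  induction x using TensorProduct.induction_on with
  | zero => simp
  | tmul m w => simp [c_tmul]
  | add a b ha hb => simp only [map_add, ha, hb]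

omit [Module A Ω] [IsScalarTower A B Ω] [Module A M] [IsScalarTower A B M] in
theorem eq_of_c [Module.Free B Ω] [Module.Finite B Ω] {x y : M ⊗[B] Ω}
    (h : ∀ θ : Ω →ₗ[B] B, c θ M x = c θ M y) : x = y := by
  let b := Module.Free.chooseBasis B Ω
  have key : ∀ z : M ⊗[B] Ω, z = ∑ i, c (b.coord i) M z ⊗ₜ[B] b i := fun z => by
    induction z using TensorProduct.induction_on with
    | zero => simp
    | tmul m w =>
      simp only [c_tmul, TensorProduct.smul_tmul, ← TensorProduct.tmul_sum, Module.Basis.coord_apply,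
        b.sum_repr]
    | add u v hu hv =>
      simp only [map_add, TensorProduct.add_tmul, Finset.sum_add_distrib, ← hu, ← hv]
  rw [key x, key y]
  simp only [h]

variable (δ : Derivation A B Ω)

theorem along_smul (nabla : M →ₗ[A] M ⊗[B] Ω) (hc : Conn.IsConn δ nabla) (θ : Ω →ₗ[B] B) (b : B) (m : M) :
    Conn.along nabla θ (b • m) = b • Conn.along nabla θ m + θ (δ b) • m := by
  rw [along_eq, along_eq, hc, map_add, map_smul, c_tmul]

theorem along_triv (θ : Ω →ₗ[B] B) (b : B) : Conn.along (Conn.triv δ) θ b = θ (δ b) := by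
  rw [along_eq, Conn.triv_apply, c_tmul, smul_eq_mul, mul_one]

omit [Module A Ω] [IsScalarTower A B Ω] in
theorem along_hom {nabla : M →ₗ[A] M ⊗[B] Ω} {nabla' : N →ₗ[A] N ⊗[B] Ω}
    {nablaH : (M →ₗ[B] N) →ₗ[A] (M →ₗ[B] N) ⊗[B] Ω} (hH : Conn.IsHomConn nabla nabla' nablaH)
    (θ : Ω →ₗ[B] B) (φ : M →ₗ[B] N) (m : M) :
    Conn.along nablaH θ φ m = Conn.along nabla' θ (φ m) - φ (Conn.along nabla θ m) := by
  have h := congrArg (c θ N) (hH φ m)
  rw [c_map, map_sub, c_map] at h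
  exact h

omit [Module A Ω] [IsScalarTower A B Ω] in
theorem along_tensor {nabla : M →ₗ[A] M ⊗[B] Ω} {nabla' : N →ₗ[A] N ⊗[B] Ω}
    {nablaT : M ⊗[B] N →ₗ[A] (M ⊗[B] N) ⊗[B] Ω} (hT : Conn.IsTensorConn nabla nabla' nablaT)
    (θ : Ω →ₗ[B] B) (m : M) (m' : N) :
    Conn.along nablaT θ (m ⊗ₜ m') = Conn.along nabla θ m ⊗ₜ m' + m ⊗ₜ Conn.along nabla' θ m' := by
  rw [along_eq, along_eq, along_eq, hT, map_add]
  congr 1
  · induction nabla m using TensorProduct.induction_on with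
    | zero => simp
    | tmul x w => rw [Conn.swapR_tmul, c_tmul, c_tmul, TensorProduct.smul_tmul']
    | add a b ha hb => simp only [map_add, TensorProduct.add_tmul, ha, hb]
  · induction nabla' m' using TensorProduct.induction_on with
    | zero => simp
    | tmul x w => rw [TensorProduct.assoc_symm_tmul, c_tmul, c_tmul, TensorProduct.tmul_smul]
    | add a b ha hb => simp only [map_add, TensorProduct.tmul_add, ha, hb]

omit [Module A Ω] [IsScalarTower A B Ω] in
theorem isHorizontal_iff [Module.Free B Ω] [Module.Finite B Ω] (nabla : M →ₗ[A] M ⊗[B] Ω)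
    (nabla' : N →ₗ[A] N ⊗[B] Ω) (f : M →ₗ[B] N) :
    Conn.IsHorizontal nabla nabla' f ↔ ∀ θ m, Conn.along nabla' θ (f m) = f (Conn.along nabla θ m) := by
  refine ⟨fun h θ m => ?_, fun h m => eq_of_c fun θ => ?_⟩
  · rw [along_eq, along_eq, h, c_map]
  · rw [c_map]; exact h θ m

omit [Module A Ω] [IsScalarTower A B Ω] in
theorem isHorizontal_of_tensor [Module.Free B Ω] [Module.Finite B Ω] {P : Type u} [AddCommGroup P]
    [Module B P] [Module A P] [IsScalarTower A B P] {nabla : M →ₗ[A] M ⊗[B] Ω} {nabla' : N →ₗ[A] N ⊗[B] Ω}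
    {nablaT : M ⊗[B] N →ₗ[A] (M ⊗[B] N) ⊗[B] Ω} (hT : Conn.IsTensorConn nabla nabla' nablaT)
    (nablaP : P →ₗ[A] P ⊗[B] Ω) (f : M ⊗[B] N →ₗ[B] P)
    (h : ∀ θ m m', Conn.along nablaP θ (f (m ⊗ₜ m')) =
      f (Conn.along nabla θ m ⊗ₜ m') + f (m ⊗ₜ Conn.along nabla' θ m')) :
    Conn.IsHorizontal nablaT nablaP f := by
  refine (isHorizontal_iff _ _ _).mpr fun θ x => ?_
  induction x using TensorProduct.induction_on with
  | zero => simp
  | tmul m m' => rw [h, along_tensor hT, map_add]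
  | add a b ha hb => simp only [map_add, ha, hb]

/-- the trace of an induced derivative -/
theorem trace_along [Module.Finite B M] [Module.Free B M] (nabla : M →ₗ[A] M ⊗[B] Ω)
    (hc : Conn.IsConn δ nabla) (nablaE : (M →ₗ[B] M) →ₗ[A] (M →ₗ[B] M) ⊗[B] Ω)
    (hE : Conn.IsHomConn nabla nabla nablaE) (θ : Ω →ₗ[B] B) (φ : M →ₗ[B] M) :
    LinearMap.trace B M (Conn.along nablaE θ φ) = θ (δ (LinearMap.trace B M φ)) := by
  classical
  let b := Module.Free.chooseBasis B M
  let G : M →ₗ[B] M := b.constr B fun i => Conn.along nabla θ (b i)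
  have hG : ∀ i, G (b i) = Conn.along nabla θ (b i) := fun i => b.constr_basis B _ i
  let H : M →ₗ[B] M := b.constr B fun i => ∑ j, θ (δ (b.repr (φ (b i)) j)) • b j
  have hH : ∀ i, H (b i) = ∑ j, θ (δ (b.repr (φ (b i)) j)) • b j := fun i => b.constr_basis B _ i
  have key : Conn.along nablaE θ φ = H + (G * φ - φ * G) := by
    refine b.ext fun i => ?_
    rw [along_hom hE, LinearMap.add_apply, LinearMap.sub_apply, Module.End.mul_apply,
      Module.End.mul_apply, hG, hH]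
    conv_lhs => rw [← b.sum_repr (φ (b i))]
    conv_rhs => arg 2; arg 1; rw [← b.sum_repr (φ (b i))]
    simp only [map_sum, along_smul δ nabla hc, map_smul, hG, Finset.sum_add_distrib]
    abel
  rw [key, map_add, map_sub, LinearMap.trace_mul_comm, sub_self, add_zero,
    LinearMap.trace_eq_matrix_trace B b, LinearMap.trace_eq_matrix_trace B b, Matrix.trace, Matrix.trace,
    map_sum, map_sum]
  refine Finset.sum_congr rfl fun i _ => ?_
  simp only [Matrix.diag_apply, LinearMap.toMatrix_apply, hH, map_sum, map_smul, Module.Basis.repr_self,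
    Finsupp.smul_single, smul_eq_mul, mul_one]
  simp [Finsupp.finsetSum_apply, Finsupp.single_apply]

theorem isHorizontal_trace [Module.Free B Ω] [Module.Finite B Ω] [Module.Finite B M] [Module.Free B M]
    (nabla : M →ₗ[A] M ⊗[B] Ω)
    (hc : Conn.IsConn δ nabla) (nablaE : (M →ₗ[B] M) →ₗ[A] (M →ₗ[B] M) ⊗[B] Ω)
    (hE : Conn.IsHomConn nabla nabla nablaE) :
    Conn.IsHorizontal nablaE (Conn.triv δ) (LinearMap.trace B M) :=
  (isHorizontal_iff _ _ _).mpr fun θ φ => by rw [along_triv, trace_along δ nabla hc nablaE hE]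

theorem isHorizontal_llcomp [Module.Free B Ω] [Module.Finite B Ω] {E F G : Type u}
    [AddCommGroup E] [Module B E] [Module A E] [IsScalarTower A B E]
    [AddCommGroup F] [Module B F] [Module A F] [IsScalarTower A B F]
    [AddCommGroup G] [Module B G] [Module A G] [IsScalarTower A B G]
    {nE : E →ₗ[A] E ⊗[B] Ω} {nF : F →ₗ[A] F ⊗[B] Ω} {nG : G →ₗ[A] G ⊗[B] Ω}
    {nEF : (E →ₗ[B] F) →ₗ[A] (E →ₗ[B] F) ⊗[B] Ω} (hEF : Conn.IsHomConn nE nF nEF)
    {nFG : (F →ₗ[B] G) →ₗ[A] (F →ₗ[B] G) ⊗[B] Ω} (hFG : Conn.IsHomConn nF nG nFG)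
    {nEG : (E →ₗ[B] G) →ₗ[A] (E →ₗ[B] G) ⊗[B] Ω} (hEG : Conn.IsHomConn nE nG nEG)
    {nT : (F →ₗ[B] G) ⊗[B] (E →ₗ[B] F) →ₗ[A] ((F →ₗ[B] G) ⊗[B] (E →ₗ[B] F)) ⊗[B] Ω}
    (hT : Conn.IsTensorConn nFG nEF nT) :
    Conn.IsHorizontal nT nEG (TensorProduct.lift (LinearMap.llcomp B E F G)) := by
  refine isHorizontal_of_tensor hT _ _ fun θ ψ φ => LinearMap.ext fun e => ?_
  simp only [TensorProduct.lift.tmul, LinearMap.llcomp_apply, LinearMap.add_apply, along_hom hEG,
    along_hom hEF, along_hom hFG, map_sub]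
  abel

theorem isHorizontal_eval [Module.Free B Ω] [Module.Finite B Ω] {E F : Type u}
    [AddCommGroup E] [Module B E] [Module A E] [IsScalarTower A B E]
    [AddCommGroup F] [Module B F] [Module A F] [IsScalarTower A B F]
    {nE : E →ₗ[A] E ⊗[B] Ω} {nF : F →ₗ[A] F ⊗[B] Ω}
    {nEF : (E →ₗ[B] F) →ₗ[A] (E →ₗ[B] F) ⊗[B] Ω} (hEF : Conn.IsHomConn nE nF nEF)
    {nT : (E →ₗ[B] F) ⊗[B] E →ₗ[A] ((E →ₗ[B] F) ⊗[B] E) ⊗[B] Ω} (hT : Conn.IsTensorConn nEF nE nT) :
    Conn.IsHorizontal nT nF (TensorProduct.lift (LinearMap.id : (E →ₗ[B] F) →ₗ[B] (E →ₗ[B] F))) := by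
  refine isHorizontal_of_tensor hT _ _ fun θ φ e => ?_
  simp only [TensorProduct.lift.tmul, LinearMap.id_apply, along_hom hEF]
  abel

theorem isHorizontal_rTensorHom [Module.Free B Ω] [Module.Finite B Ω] {E F G : Type u}
    [AddCommGroup E] [Module B E] [Module A E] [IsScalarTower A B E]
    [AddCommGroup F] [Module B F] [Module A F] [IsScalarTower A B F]
    [AddCommGroup G] [Module B G] [Module A G] [IsScalarTower A B G]
    {nE : E →ₗ[A] E ⊗[B] Ω} {nF : F →ₗ[A] F ⊗[B] Ω} {nG : G →ₗ[A] G ⊗[B] Ω}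
    {nEF : (E →ₗ[B] F) →ₗ[A] (E →ₗ[B] F) ⊗[B] Ω} (hEF : Conn.IsHomConn nE nF nEF)
    {nFG : F ⊗[B] G →ₗ[A] (F ⊗[B] G) ⊗[B] Ω} (hFG : Conn.IsTensorConn nF nG nFG)
    {nH : (E →ₗ[B] F ⊗[B] G) →ₗ[A] (E →ₗ[B] F ⊗[B] G) ⊗[B] Ω} (hH : Conn.IsHomConn nE nFG nH)
    {nS : (E →ₗ[B] F) ⊗[B] G →ₗ[A] ((E →ₗ[B] F) ⊗[B] G) ⊗[B] Ω} (hS : Conn.IsTensorConn nEF nG nS) :
    Conn.IsHorizontal nS nH (TensorProduct.rTensorHomToHomRTensor (RingHom.id B) E F G) := by
  refine isHorizontal_of_tensor hS _ _ fun θ φ g => LinearMap.ext fun e => ?_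
  simp only [along_hom hH, LinearMap.add_apply, TensorProduct.rTensorHomToHomRTensor_apply,
    along_tensor hFG, along_hom hEF, TensorProduct.sub_tmul]
  abel

theorem anticomm_along (nabla : M →ₗ[A] M ⊗[B] Ω)
    (nablaE : (M →ₗ[B] M) →ₗ[A] (M →ₗ[B] M) ⊗[B] Ω) (hE : Conn.IsHomConn nabla nabla nablaE)
    (φ : M →ₗ[B] M) (θ η : Ω →ₗ[B] B)
    (hφ : φ ∘ₗ Conn.along nablaE η φ + Conn.along nablaE η φ ∘ₗ φ = 0) :
    φ ∘ₗ Conn.along nablaE θ (Conn.along nablaE η φ)
      + Conn.along nablaE θ (Conn.along nablaE η φ) ∘ₗ φ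
      + Conn.along nablaE θ φ ∘ₗ Conn.along nablaE η φ
      + Conn.along nablaE η φ ∘ₗ Conn.along nablaE θ φ = 0 := by
  have hcomp : ∀ α β : M →ₗ[B] M, Conn.along nablaE θ (α ∘ₗ β) =
      Conn.along nablaE θ α ∘ₗ β + α ∘ₗ Conn.along nablaE θ β := fun α β => LinearMap.ext fun m => by
    simp only [along_hom hE, LinearMap.comp_apply, LinearMap.add_apply, map_sub]
    abel
  have h := congrArg (Conn.along nablaE θ) hφ
  rw [map_add, hcomp, hcomp, map_zero] at h
  rw [← h]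
  abel

theorem isHorizontal_supertrace [Module.Free B Ω] [Module.Finite B Ω] {ι : Type u} [Fintype ι] [DecidableEq ι]
    (deg : ι → ℤ) (M : ι → Type u)
    [∀ i, AddCommGroup (M i)] [∀ i, Module B (M i)] [∀ i, Module A (M i)] [∀ i, IsScalarTower A B (M i)]
    [∀ i, Module.Free B (M i)] [∀ i, Module.Finite B (M i)]
    (nabla : (Π k, M k) →ₗ[A] (Π k, M k) ⊗[B] Ω) (hc : Conn.IsConn δ nabla)
    (hgr : ∀ i j : ι, deg i ≠ deg j → ∀ m : M i,
      TensorProduct.map (LinearMap.proj j : (Π k, M k) →ₗ[B] M j) LinearMap.id (nabla (LinearMap.single B M i m)) = 0)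
    (nablaE : ((Π k, M k) →ₗ[B] (Π k, M k)) →ₗ[A] ((Π k, M k) →ₗ[B] (Π k, M k)) ⊗[B] Ω)
    (hE : Conn.IsHomConn nabla nabla nablaE) :
    Conn.IsHorizontal nablaE (Conn.triv δ)
      (LinearMap.trace B (Π k, M k) ∘ₗ LinearMap.llcomp B (Π k, M k) (Π k, M k) (Π k, M k)
        (∑ i : ι, (LinearMap.single B M i) ∘ₗ (((-1 : B) ^ (deg i).natAbs) • (LinearMap.proj i : (Π k, M k) →ₗ[B] M i)))) := by
  set ε : (Π k, M k) →ₗ[B] (Π k, M k) :=
    ∑ i : ι, (LinearMap.single B M i) ∘ₗ (((-1 : B) ^ (deg i).natAbs) • (LinearMap.proj i : (Π k, M k) →ₗ[B] M i))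
  have hε : ∀ x j, ε x j = (-1 : B) ^ (deg j).natAbs • x j := fun x j => by
    simp [ε, LinearMap.sum_apply, Finset.sum_apply, Pi.single_apply]
  have hcomm : ∀ θ x, Conn.along nabla θ (ε x) = ε (Conn.along nabla θ x) := by
    intro θ x
    have hd : θ (δ (-1 : B)) = 0 := by
      rw [show (-1 : B) = -(1 : B) from rfl, map_neg, Derivation.map_one_eq_zero, neg_zero, map_zero]
    have hpow : ∀ n : ℕ, θ (δ ((-1 : B) ^ n)) = 0 := fun n => by
      rcases neg_one_pow_eq_or B n with h | h <;> rw [h]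
      · rw [Derivation.map_one_eq_zero, map_zero]
      · exact hd
    rw [← Finset.univ_sum_single x]
    simp only [map_sum]
    refine Finset.sum_congr rfl fun i _ => funext fun j => ?_
    have e1 : ε (Pi.single i (x i)) = (-1 : B) ^ (deg i).natAbs • Pi.single i (x i) := by
      funext k
      rw [hε]
      by_cases h : k = i
      · subst h; simp
      · simp [Pi.single_eq_of_ne h]
    rw [e1, along_smul δ nabla hc, hpow, zero_smul, add_zero, hε, Pi.smul_apply]
    by_cases h : deg i = deg j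
    · rw [h]
    · have h0 : Conn.along nabla θ (Pi.single i (x i)) j = 0 := by
        have := congrArg (c θ (M j)) (hgr i j h (x i))
        rwa [c_map, map_zero] at this
      rw [h0, smul_zero, smul_zero]
  refine (isHorizontal_iff _ _ _).mpr fun θ φ => ?_
  rw [along_triv, LinearMap.comp_apply, LinearMap.comp_apply, ← trace_along δ nabla hc nablaE hE]
  congr 1
  refine LinearMap.ext fun m => ?_
  simp only [LinearMap.llcomp_apply', along_hom hE, LinearMap.comp_apply, hcomm, map_sub]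

end Groth.Agent.HomConnLib
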